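import Groth.Agent.Lib.SchDenseNil14.Basic
import Mathlib

/-!
# Flat families detecting fibrewise detect modulo every ideal of the base
-/

set_option autoImplicit false
set_option linter.style.haveILetI false
universe u

open TensorProduct IsLocalRing

namespace GrothLib.TorsWeil14

variable {A B : Type u} [CommRing A] [IsNoetherianRing A] [CommRing B] [IsNoetherianRing B] [Algebra A B]

/-- If a family of flat algebras detects on every fibre, it detects modulo every ideal of the base. -/
theorem mem_map_of_detect {Idx : Type u} (C : Idx → Type u) [∀ i, CommRing (C i)] [∀ i, Algebra A (C i)]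
    [∀ i, Module.Flat A (C i)] (g : ∀ i, B →ₐ[A] C i) (I : Ideal A) (b : B)
    (hb : ∀ i, g i b ∈ I.map (algebraMap A (C i)))
    (hdet : ∀ p : Ideal A, p.IsPrime → ∃ (K : Type u) (_ : Field K) (_ : Algebra A K),
      RingHom.ker (algebraMap A K) = p ∧
      ∀ x : K ⊗[A] B, (∀ i, Algebra.TensorProduct.map (AlgHom.id A K) (g i) x = 0) → x = 0) :
    b ∈ I.map (algebraMap A B) := by
  classical
  let Mb : Ideal B := I.map (algebraMap A B)
  suffices hloc : ∀ (P : Ideal B) [P.IsMaximal], algebraMap B (Localization.AtPrime P) b ∈ Mb.map (algebraMap B _) by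
    let C₀ : Ideal B := Submodule.colon Mb {b}
    have : C₀ = ⊤ := by
      by_contra h
      obtain ⟨P, hP, hle⟩ := Ideal.exists_le_maximal C₀ h
      obtain ⟨s, hs, hsb⟩ := (IsLocalization.algebraMap_mem_map_algebraMap_iff P.primeCompl (Localization.AtPrime P) Mb b).1 (hloc P)
      exact hs (hle (Submodule.mem_colon_singleton.2 hsb))
    have h1 : (1 : B) ∈ C₀ := this ▸ Submodule.mem_top
    simpa using Submodule.mem_colon_singleton.1 h1
  intro P hP
  let p := P.comap (algebraMap A B)
  let BP := Localization.AtPrime P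
  let I' : Ideal BP := (I.map (algebraMap A B)).map (algebraMap B BP)
  by_cases hIp : I ≤ p
  swap
  · obtain ⟨x, hxI, hxp⟩ := SetLike.not_le_iff_exists.1 hIp
    have : I' = ⊤ := Ideal.eq_top_of_isUnit_mem _ (Ideal.mem_map_of_mem _ (Ideal.mem_map_of_mem _ hxI))
      (IsLocalization.map_units BP (⟨algebraMap A B x, hxp⟩ : P.primeCompl))
    show _ ∈ I'
    rw [this]
    trivial
  obtain ⟨K, _, _, hker, hK⟩ := hdet p inferInstance
  let Ap := Localization.AtPrime p
  let q : Ideal BP := (p.map (algebraMap A B)).map (algebraMap B BP)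
  have hq : q ≤ maximalIdeal BP := by
    rw [← Localization.AtPrime.map_eq_maximalIdeal]
    exact Ideal.map_mono Ideal.map_comap_le
  have key : ∀ k : ℕ, algebraMap B BP b ∈ I' ⊔ q ^ (k + 1) := by
    intro k
    let 𝔟 : Ideal Ap := I.map (algebraMap A Ap) ⊔ maximalIdeal Ap ^ (k + 1)
    have hle : 𝔟 ≤ maximalIdeal Ap := sup_le
      ((Ideal.map_mono hIp).trans (Localization.AtPrime.map_eq_maximalIdeal (I := p)).le)
      (Ideal.pow_le_self k.succ_ne_zero)
    let A' := Ap ⧸ 𝔟
    let J : Ideal A' := (maximalIdeal Ap).map (Ideal.Quotient.mk 𝔟)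
    haveI hJmax : J.IsMaximal := Ideal.IsMaximal.map_of_surjective_of_ker_le Ideal.Quotient.mk_surjective
      (by rw [Ideal.mk_ker]; exact hle)
    have hJ : IsNilpotent J := ⟨k + 1, by
      rw [← Ideal.map_pow, Ideal.zero_eq_bot, ← le_bot_iff, Ideal.map_le_iff_le_comap]
      intro x hx
      rw [Ideal.mem_comap, Ideal.mem_bot, Ideal.Quotient.eq_zero_iff_mem]
      exact Ideal.mem_sup_right hx⟩
    letI : Field (A' ⧸ J) := Ideal.Quotient.field J
    have hfree : ∀ j : ℕ, Module.Free (A' ⧸ J) ((A' ⧸ J) ⊗[A'] ↥(J ^ j)) := fun j =>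
      Module.Free.of_divisionRing _ _
    let toK : Ap →+* K := IsLocalization.lift (M := p.primeCompl) (g := algebraMap A K) fun y =>
      IsUnit.mk0 _ fun h => y.2 (show (y : A) ∈ p from (SetLike.ext_iff.1 hker _).1 h)
    have htoK : ∀ x ∈ maximalIdeal Ap, toK x = 0 := by
      rw [← Localization.AtPrime.map_eq_maximalIdeal (I := p)]
      intro x hx
      refine (Ideal.map_le_iff_le_comap (K := RingHom.ker toK)).2 (fun a ha => ?_) hx
      show toK (algebraMap A Ap a) = 0
      rw [IsLocalization.lift_eq]
      exact (show a ∈ RingHom.ker (algebraMap A K) from hker.symm ▸ ha)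
    let toK' : A' →+* K := Ideal.Quotient.lift 𝔟 toK fun x hx => htoK x (hle hx)
    have htoK' : ∀ x ∈ J, toK' x = 0 := by
      intro x hx
      obtain ⟨y, hy, rfl⟩ := (Ideal.mem_map_iff_of_surjective _ Ideal.Quotient.mk_surjective).1 hx
      exact htoK y hy
    let ρ : (A' ⧸ J) →ₐ[A] K :=
      { Ideal.Quotient.lift J toK' htoK' with
        commutes' := fun a => by
          show toK (algebraMap A Ap a) = _
          exact IsLocalization.lift_eq _ a }
    -- a retraction of `ρ`
    letI : Algebra (A' ⧸ J) K := ρ.toRingHom.toAlgebra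
    haveI : IsScalarTower A (A' ⧸ J) K := IsScalarTower.of_algebraMap_eq fun a => (ρ.commutes a).symm
    obtain ⟨r, hr⟩ := LinearMap.exists_leftInverse_of_injective (Algebra.linearMap (A' ⧸ J) K)
      (LinearMap.ker_eq_bot.2 ρ.toRingHom.injective)
    have hinj : Function.Injective (Algebra.TensorProduct.map ρ (AlgHom.id A B)) :=
      Function.LeftInverse.injective (g := (r.restrictScalars A).rTensor B) fun x => by
        induction x using TensorProduct.induction_on with
        | zero => simp
        | add x y hx hy => rw [map_add, map_add, hx, hy]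
        | tmul c y =>
          simp only [Algebra.TensorProduct.map_tmul, AlgHom.id_apply, LinearMap.rTensor_tmul, LinearMap.restrictScalars_apply]
          congr 1
          exact LinearMap.congr_fun hr c
    let qJ : A' →ₐ[A] (A' ⧸ J) := Ideal.Quotient.mkₐ A J
    have hzero : (1 : A') ⊗ₜ[A] b = 0 := by
      refine SchDenseNil14.eq_zero_of_detect J (B := A' ⊗[A] B) (fun i => A' ⊗[A] C i)
        (fun i => Algebra.TensorProduct.map (AlgHom.id A' A') (g i)) hJ hfree (fun x hx => ?_) fun i => ?_
      · have h1 : Algebra.TensorProduct.map qJ (AlgHom.id A B) x = 0 := hinj (by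
          rw [map_zero]
          refine hK _ fun i => ?_
          have hcomp : ∀ z, Algebra.TensorProduct.map (AlgHom.id A K) (g i)
              (Algebra.TensorProduct.map ρ (AlgHom.id A B) (Algebra.TensorProduct.map qJ (AlgHom.id A B) z)) =
              Algebra.TensorProduct.map (ρ.comp qJ) (AlgHom.id A (C i)) (Algebra.TensorProduct.map (AlgHom.id A' A') (g i) z) := by
            intro z
            induction z using TensorProduct.induction_on with
            | zero => simp
            | add x y hx hy => simp only [map_add, hx, hy]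
            | tmul c y => simp
          rw [hcomp]
          refine (Ideal.map_le_iff_le_comap (K := RingHom.ker (Algebra.TensorProduct.map (ρ.comp qJ) (AlgHom.id A (C i))).toRingHom)).2
            (fun a ha => ?_) (hx i)
          show Algebra.TensorProduct.map (ρ.comp qJ) (AlgHom.id A (C i)) (a ⊗ₜ 1) = 0
          rw [Algebra.TensorProduct.map_tmul, AlgHom.comp_apply,
            show qJ a = 0 from Ideal.Quotient.eq_zero_iff_mem.2 ha, map_zero, TensorProduct.zero_tmul])
        have h2 : x ∈ RingHom.ker (Algebra.TensorProduct.map qJ (AlgHom.id A B)) := h1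
        rw [Algebra.TensorProduct.rTensor_ker qJ (Ideal.Quotient.mkₐ_surjective A J)] at h2
        refine (Ideal.map_le_iff_le_comap).2 (fun a ha => ?_) h2
        have ha' : a ∈ J := by rwa [← Ideal.Quotient.mkₐ_ker A J]
        exact Ideal.mem_map_of_mem _ ha'
      · show (1 : A') ⊗ₜ[A] g i b = 0
        refine (Ideal.map_le_iff_le_comap
          (K := RingHom.ker (Algebra.TensorProduct.includeRight : C i →ₐ[A] A' ⊗[A] C i).toRingHom)).2 (fun a ha => ?_) (hb i)
        show (1 : A') ⊗ₜ[A] algebraMap A (C i) a = 0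
        rw [Algebra.algebraMap_eq_smul_one, TensorProduct.tmul_smul, TensorProduct.smul_tmul',
          ← Algebra.algebraMap_eq_smul_one, show algebraMap A A' a = 0 from Ideal.Quotient.eq_zero_iff_mem.2
            (Ideal.mem_sup_left (Ideal.mem_map_of_mem _ ha)), TensorProduct.zero_tmul]
    -- back to the local ring
    let L := BP ⧸ (I' ⊔ q ^ (k + 1))
    let toL : A →+* L := (Ideal.Quotient.mk _).comp ((algebraMap B BP).comp (algebraMap A B))
    let ApL : Ap →+* L := IsLocalization.lift (M := p.primeCompl) (g := toL) fun y =>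
      (IsLocalization.map_units BP (⟨algebraMap A B y, y.2⟩ : P.primeCompl)).map (Ideal.Quotient.mk _)
    have hApL : ∀ a, ApL (algebraMap A Ap a) = toL a := fun a => IsLocalization.lift_eq _ a
    have hA'L : 𝔟 ≤ RingHom.ker ApL := by
      refine sup_le (Ideal.map_le_iff_le_comap.2 fun a ha => ?_) ?_
      · show ApL (algebraMap A Ap a) = 0
        rw [hApL]
        exact Ideal.Quotient.eq_zero_iff_mem.2 (Ideal.mem_sup_left (Ideal.mem_map_of_mem _ (Ideal.mem_map_of_mem _ ha)))
      · rw [← Localization.AtPrime.map_eq_maximalIdeal (I := p), ← Ideal.map_pow, Ideal.map_le_iff_le_comap]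
        intro a ha
        show ApL (algebraMap A Ap a) = 0
        rw [hApL]
        refine Ideal.Quotient.eq_zero_iff_mem.2 (Ideal.mem_sup_right ?_)
        rw [show q ^ (k + 1) = ((p ^ (k + 1)).map (algebraMap A B)).map (algebraMap B BP) by rw [Ideal.map_pow, Ideal.map_pow]]
        exact Ideal.mem_map_of_mem _ (Ideal.mem_map_of_mem _ ha)
    let A'L : A' →+* L := Ideal.Quotient.lift 𝔟 ApL fun x hx => hA'L hx
    let fA : A' →ₐ[A] L := { A'L with commutes' := hApL }
    let fB : B →ₐ[A] L := { (Ideal.Quotient.mk (I' ⊔ q ^ (k + 1))).comp (algebraMap B BP) with commutes' := fun _ => rfl }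
    have := congrArg (Algebra.TensorProduct.lift fA fB fun _ _ => Commute.all _ _) hzero
    rw [Algebra.TensorProduct.lift_tmul, map_one, one_mul, map_zero] at this
    exact Ideal.Quotient.eq_zero_iff_mem.1 this
  -- Krull
  by_contra hnot
  have hne : I' ≠ ⊤ := fun h => hnot (by show _ ∈ I'; rw [h]; trivial)
  haveI : Nontrivial (BP ⧸ I') := Ideal.Quotient.nontrivial_iff.2 hne
  haveI : IsLocalRing (BP ⧸ I') := IsLocalRing.of_surjective' (Ideal.Quotient.mk I') Ideal.Quotient.mk_surjective
  let q' : Ideal (BP ⧸ I') := q.map (Ideal.Quotient.mk I')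
  have hq' : q' ≤ maximalIdeal (BP ⧸ I') := IsLocalRing.le_maximalIdeal fun h => by
    have := congrArg (Ideal.comap (Ideal.Quotient.mk I')) h
    rw [Ideal.comap_map_of_surjective' _ Ideal.Quotient.mk_surjective, Ideal.mk_ker, Ideal.comap_top] at this
    exact (maximalIdeal.isMaximal BP).ne_top (top_le_iff.1 (this ▸ sup_le hq (IsLocalRing.le_maximalIdeal hne)))
  have hmem : Ideal.Quotient.mk I' (algebraMap B BP b) ∈ ⨅ j : ℕ, q' ^ j := by
    rw [Ideal.mem_iInf]
    intro j
    rcases j with _ | k
    · simp
    · rw [← Ideal.map_pow]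
      obtain ⟨y, hy, z, hz, hyz⟩ := Submodule.mem_sup.1 (key k)
      rw [← hyz, map_add, Ideal.Quotient.eq_zero_iff_mem.2 hy, zero_add]
      exact Ideal.mem_map_of_mem _ hz
  rw [Ideal.iInf_pow_eq_bot_of_isLocalRing q' (fun h => (maximalIdeal.isMaximal (BP ⧸ I')).ne_top (top_le_iff.1 (h ▸ hq'))),
    Ideal.mem_bot, Ideal.Quotient.eq_zero_iff_mem] at hmem
  exact hnot hmem

end GrothLib.TorsWeil14
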