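import Groth.Agent.Lib.TorsWeil14.Main
import Mathlib.RingTheory.Ideal.AssociatedPrime.Finiteness
import Mathlib.LinearAlgebra.TensorProduct.Finiteness

/-!
# Fibrewise dense flat families stay dense after every base change
-/

set_option autoImplicit false
set_option backward.isDefEq.respectTransparency false
set_option linter.style.haveILetI false
universe u

open CategoryTheory CategoryTheory.Limits AlgebraicGeometry TensorProduct

noncomputable section

namespace GrothLib.TorsWeil14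

section Alg

variable {A B : Type u} [CommRing A] [IsNoetherianRing A] [CommRing B] [IsNoetherianRing B] [Algebra A B]

/-- A family of flat algebras detecting on every fibre detects after tensoring with any module. -/
theorem tensor_eq_zero_of_detect {Idx : Type u} (C : Idx → Type u) [∀ i, CommRing (C i)] [∀ i, Algebra A (C i)]
    [∀ i, Module.Flat A (C i)] (g : ∀ i, B →ₐ[A] C i)
    (hdet : ∀ p : Ideal A, p.IsPrime → ∃ (K : Type u) (_ : Field K) (_ : Algebra A K),
      RingHom.ker (algebraMap A K) = p ∧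
      ∀ x : K ⊗[A] B, (∀ i, Algebra.TensorProduct.map (AlgHom.id A K) (g i) x = 0) → x = 0)
    {M : Type u} [AddCommGroup M] [Module A M] (x : M ⊗[A] B)
    (hx : ∀ i, LinearMap.lTensor M (g i).toLinearMap x = 0) : x = 0 := by
  have hfin : ∀ (N : Type u) [AddCommGroup N] [Module A N] [Module.Finite A N] (y : N ⊗[A] B),
      (∀ i, LinearMap.lTensor N (g i).toLinearMap y = 0) → y = 0 := by
    intro N _ _ hN
    induction hN using IsNoetherianRing.induction_on_isQuotientEquivQuotientPrime A with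
    | subsingleton N => exact fun y _ => Subsingleton.elim _ _
    | quotient N p f =>
      intro y hy
      let e := LinearEquiv.rTensor B f ≪≫ₗ TensorProduct.quotTensorEquivQuotSMul B p.1
      obtain ⟨b, hb⟩ := Submodule.Quotient.mk_surjective _ (e y)
      apply e.injective
      rw [map_zero, ← hb, Submodule.Quotient.mk_eq_zero, Ideal.smul_top_eq_map]
      refine mem_map_of_detect C g p.1 b (fun i => ?_) hdet
      let e' := LinearEquiv.rTensor (C i) f ≪≫ₗ TensorProduct.quotTensorEquivQuotSMul (C i) p.1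
      have h1 : ∀ z, e' (LinearMap.lTensor N (g i).toLinearMap z) =
          Submodule.mapQ (p.1 • ⊤) (p.1 • ⊤) (g i).toLinearMap
            (Submodule.smul_top_le_comap_smul_top _ _) (e z) := by
        intro z
        induction z using TensorProduct.induction_on with
        | zero => simp
        | add a b ha hb => simp only [map_add, ha, hb]
        | tmul n c =>
          obtain ⟨a, ha⟩ := Ideal.Quotient.mk_surjective (f n)
          simp only [e, e', LinearEquiv.trans_apply, LinearMap.lTensor_tmul, LinearEquiv.rTensor_tmul, ← ha]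
          simp
      have h2 := h1 y
      rw [hy i, map_zero, ← hb] at h2
      have h3 : (g i).toLinearMap b ∈ p.1 • (⊤ : Submodule A (C i)) := (Submodule.Quotient.mk_eq_zero _).1 h2.symm
      rwa [Ideal.smul_top_eq_map] at h3
    | exact N₁ N₂ N₃ f q hf hq hfq h₁ h₃ =>
      intro y hy
      have hcomp : ∀ {P Q : Type u} [AddCommGroup P] [Module A P] [AddCommGroup Q] [Module A Q] (φ : P →ₗ[A] Q)
          (i : Idx) (z : P ⊗[A] B), LinearMap.rTensor (C i) φ (LinearMap.lTensor P (g i).toLinearMap z) =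
            LinearMap.lTensor Q (g i).toLinearMap (LinearMap.rTensor B φ z) := by
        intro P Q _ _ _ _ φ i z
        rw [← LinearMap.comp_apply, ← LinearMap.comp_apply, LinearMap.rTensor_comp_lTensor, LinearMap.lTensor_comp_rTensor]
      have hq0 : LinearMap.rTensor B q y = 0 := h₃ _ fun i => by rw [← hcomp, hy i, map_zero]
      obtain ⟨y₁, rfl⟩ := (rTensor_exact B hfq hq y).1 hq0
      rw [h₁ y₁ fun i => Module.Flat.rTensor_preserves_injective_linearMap f hf (by rw [hcomp, hy i, map_zero]),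
        map_zero]
  obtain ⟨N, hN, hmem⟩ := TensorProduct.exists_finite_submodule_left_of_setFinite {x} (Set.finite_singleton x)
  obtain ⟨y, rfl⟩ := hmem (Set.mem_singleton x)
  rw [hfin N y fun i => ?_, map_zero]
  refine Module.Flat.rTensor_preserves_injective_linearMap N.subtype Subtype.val_injective ?_
  rw [map_zero, ← hx i, ← LinearMap.comp_apply, ← LinearMap.comp_apply, LinearMap.rTensor_comp_lTensor,
    LinearMap.lTensor_comp_rTensor]

end Alg

variable {S T : Scheme.{u}} {X : Scheme.{u}} (h : X ⟶ S) (g : T ⟶ S)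

/-- The affine chart of a base change. -/
def bcChart {V : S.Opens} (hV : IsAffineOpen V) {W : X.Opens} (hW : IsAffineOpen W) (hWV : W ≤ h ⁻¹ᵁ V)
    {V₁ : T.Opens} (hV₁ : IsAffineOpen V₁) (hgV : V₁ ≤ g ⁻¹ᵁ V) :
    letI := (h.appLE V W hWV).hom.toAlgebra
    letI := (g.appLE V V₁ hgV).hom.toAlgebra
    Spec (CommRingCat.of (Γ(X, W) ⊗[Γ(S, V)] Γ(T, V₁))) ⟶ pullback h g :=
  letI := (h.appLE V W hWV).hom.toAlgebra
  letI := (g.appLE V V₁ hgV).hom.toAlgebra
  (pullbackSpecIso Γ(S, V) Γ(X, W) Γ(T, V₁)).inv ≫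
    pullback.map _ _ h g hW.fromSpec hV₁.fromSpec hV.fromSpec
      (IsAffineOpen.SpecMap_appLE_fromSpec h hV hW hWV) (IsAffineOpen.SpecMap_appLE_fromSpec g hV hV₁ hgV)

variable {V : S.Opens} (hV : IsAffineOpen V) {W : X.Opens} (hW : IsAffineOpen W) (hWV : W ≤ h ⁻¹ᵁ V)
  {V₁ : T.Opens} (hV₁ : IsAffineOpen V₁) (hgV : V₁ ≤ g ⁻¹ᵁ V)

instance isOpenImmersion_bcChart : IsOpenImmersion (bcChart h g hV hW hWV hV₁ hgV) := by
  unfold bcChart
  infer_instance

theorem range_bcChart : Set.range (bcChart h g hV hW hWV hV₁ hgV) =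
    (pullback.fst h g) ⁻¹' W ∩ (pullback.snd h g) ⁻¹' V₁ := by
  letI := (h.appLE V W hWV).hom.toAlgebra
  letI := (g.appLE V V₁ hgV).hom.toAlgebra
  unfold bcChart
  rw [Scheme.Hom.comp_base, TopCat.coe_comp, Set.range_comp,
    Set.range_eq_univ.2 (pullbackSpecIso Γ(S, V) Γ(X, W) Γ(T, V₁)).inv.surjective, Set.image_univ,
    Scheme.Pullback.range_map]
  erw [hW.range_fromSpec, hV₁.range_fromSpec]

theorem bcChart_fst :
    letI := (h.appLE V W hWV).hom.toAlgebra
    letI := (g.appLE V V₁ hgV).hom.toAlgebra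
    bcChart h g hV hW hWV hV₁ hgV ≫ pullback.fst h g =
      Spec.map (CommRingCat.ofHom (algebraMap Γ(X, W) (Γ(X, W) ⊗[Γ(S, V)] Γ(T, V₁)))) ≫ hW.fromSpec := by
  unfold bcChart
  rw [Category.assoc, pullback.lift_fst, ← Category.assoc, pullbackSpecIso_inv_fst']

theorem bcChart_snd :
    letI := (h.appLE V W hWV).hom.toAlgebra
    letI := (g.appLE V V₁ hgV).hom.toAlgebra
    bcChart h g hV hW hWV hV₁ hgV ≫ pullback.snd h g =
      Spec.map (CommRingCat.ofHom (Algebra.TensorProduct.includeRight :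
        Γ(T, V₁) →ₐ[Γ(S, V)] Γ(X, W) ⊗[Γ(S, V)] Γ(T, V₁)).toRingHom) ≫ hV₁.fromSpec := by
  unfold bcChart
  rw [Category.assoc, pullback.lift_snd, ← Category.assoc, pullbackSpecIso_inv_snd]
  rfl

variable {Z : Scheme.{u}} (v : Z ⟶ X)

/-- The base change of a member. -/
def bcMember : pullback (v ≫ h) g ⟶ pullback h g :=
  pullback.map (v ≫ h) g h g v (𝟙 _) (𝟙 _) (Category.comp_id _) (by simp)

theorem bcChart_comp_member {U : Z.Opens} (hU : IsAffineOpen U) (hUW : U ≤ v ⁻¹ᵁ W) (hUV : U ≤ (v ≫ h) ⁻¹ᵁ V) :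
    letI := (h.appLE V W hWV).hom.toAlgebra
    letI := ((v ≫ h).appLE V U hUV).hom.toAlgebra
    letI := (g.appLE V V₁ hgV).hom.toAlgebra
    bcChart (v ≫ h) g hV hU hUV hV₁ hgV ≫ bcMember h g v =
      Spec.map (CommRingCat.ofHom (Algebra.TensorProduct.map (secHom h hWV v hUW hUV)
        (AlgHom.id Γ(S, V) Γ(T, V₁))).toRingHom) ≫ bcChart h g hV hW hWV hV₁ hgV := by
  letI := (h.appLE V W hWV).hom.toAlgebra
  letI := ((v ≫ h).appLE V U hUV).hom.toAlgebra
  letI := (g.appLE V V₁ hgV).hom.toAlgebra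
  apply pullback.hom_ext
  · rw [Category.assoc, bcMember, pullback.lift_fst, ← Category.assoc, bcChart_fst, Category.assoc,
      ← IsAffineOpen.SpecMap_appLE_fromSpec v hW hU hUW, Category.assoc, bcChart_fst, ← Spec.map_comp_assoc,
      ← Spec.map_comp_assoc]
    congr 2
  · rw [Category.assoc, bcMember, pullback.lift_snd, Category.comp_id, bcChart_snd, Category.assoc, bcChart_snd,
      ← Spec.map_comp_assoc]
    congr 2
    ext b
    exact ((Algebra.TensorProduct.map_tmul (secHom h hWV v hUW hUV) (AlgHom.id Γ(S, V) Γ(T, V₁)) 1 b).trans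
      (by rw [map_one]; rfl)).symm

/-- A closed subscheme of a base change containing a fibrewise dense flat family is everything. -/
theorem isIso_of_dense [IsLocallyNoetherian S] [LocallyOfFiniteType h] {Idx : Type u} (Z : Idx → Scheme.{u})
    (v : ∀ i, Z i ⟶ X) [∀ i, Flat (v i ≫ h)]
    (hb : ∀ (s : S) (O : (h.fiber s).Opens) (t : Γ(h.fiber s, O)),
      (∀ i, (MoreMor.fiberMap (v i) h s).app O t = 0) → t = 0)
    {Y : Scheme.{u}} (y : Y ⟶ pullback h g) [IsClosedImmersion y]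
    (hZ : ∀ i, ∃ l : pullback (v i ≫ h) g ⟶ Y, l ≫ y = bcMember h g (v i)) : IsIso y := by
  haveI : IsLocallyNoetherian X := LocallyOfFiniteType.isLocallyNoetherian h
  have hbasis : ∀ x : ↥(pullback h g), ∃ (V : S.Opens) (W : X.Opens) (V₁ : T.Opens), IsAffineOpen V ∧ IsAffineOpen W ∧
      IsAffineOpen V₁ ∧ pullback.fst h g x ∈ W ∧ pullback.snd h g x ∈ V₁ ∧ W ≤ h ⁻¹ᵁ V ∧ V₁ ≤ g ⁻¹ᵁ V := fun x => by
    obtain ⟨V, hV, hxV, -⟩ := exists_isAffineOpen_mem_and_subset
      (TopologicalSpace.Opens.mem_top (h (pullback.fst h g x)))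
    obtain ⟨W, hW, hxW, hWV⟩ := exists_isAffineOpen_mem_and_subset (show pullback.fst h g x ∈ h ⁻¹ᵁ V from hxV)
    obtain ⟨V₁, hV₁, hxV₁, hgV⟩ := exists_isAffineOpen_mem_and_subset (show pullback.snd h g x ∈ g ⁻¹ᵁ V by
      show g (pullback.snd h g x) ∈ V
      rw [← Scheme.Hom.comp_apply, ← pullback.condition, Scheme.Hom.comp_apply]
      exact hxV)
    exact ⟨V, W, V₁, hV, hW, hV₁, hxW, hxV₁, hWV, hgV⟩
  choose V W V₁ hV hW hV₁ hxW hxV₁ hWV hgV using hbasis
  let φ := fun x => bcChart h g (hV x) (hW x) (hWV x) (hV₁ x) (hgV x)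
  refine (IsZariskiLocalAtTarget.iff_of_iSup_eq_top (P := MorphismProperty.isomorphisms Scheme.{u})
    (fun x => (φ x).opensRange) (eq_top_iff.2 fun x _ => TopologicalSpace.Opens.mem_iSup.2 ⟨x, ?_⟩)).2 fun x => ?_
  · show x ∈ Set.range (φ x)
    rw [range_bcChart]
    exact ⟨hxW x, hxV₁ x⟩
  letI := (h.appLE (V x) (W x) (hWV x)).hom.toAlgebra
  letI := (g.appLE (V x) (V₁ x) (hgV x)).hom.toAlgebra
  refine (MorphismProperty.arrow_mk_iso_iff (MorphismProperty.isomorphisms Scheme.{u})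
    (morphismRestrictOpensRange y (φ x))).2 ?_
  show IsIso (pullback.snd y (φ x))
  haveI : IsClosedImmersion (pullback.snd y (φ x)) := inferInstance
  obtain ⟨I, e, he⟩ := IsClosedImmersion.Spec_iff.mp ‹_›
  suffices hI : I = ⊥ by
    subst hI
    rw [he]
    haveI : IsIso (CommRingCat.ofHom (Ideal.Quotient.mk (⊥ : Ideal (Γ(X, W x) ⊗[Γ(S, V x)] Γ(T, V₁ x))))) :=
      (ConcreteCategory.isIso_iff_bijective _).2 ⟨(RingHom.injective_iff_ker_eq_bot _).2 Ideal.mk_ker,
        Ideal.Quotient.mk_surjective⟩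
    infer_instance
  rw [eq_bot_iff]
  intro b hbI
  haveI : IsNoetherianRing Γ(S, V x) := IsLocallyNoetherian.component_noetherian ⟨V x, hV x⟩
  haveI : IsNoetherianRing Γ(X, W x) := IsLocallyNoetherian.component_noetherian ⟨W x, hW x⟩
  let J := Σ i, {U : (Z i).affineOpens // U.1 ≤ v i ⁻¹ᵁ W x ∧ U.1 ≤ (v i ≫ h) ⁻¹ᵁ V x}
  letI : ∀ w : J, Algebra Γ(S, V x) Γ(Z w.1, w.2.1.1) := fun w => ((v w.1 ≫ h).appLE (V x) w.2.1.1 w.2.2.2).hom.toAlgebra
  haveI : ∀ w : J, Module.Flat Γ(S, V x) Γ(Z w.1, w.2.1.1) := fun w =>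
    Scheme.Hom.flat_appLE (v w.1 ≫ h) (hV x) w.2.1.2 w.2.2.2
  apply (Algebra.TensorProduct.comm Γ(S, V x) Γ(X, W x) Γ(T, V₁ x)).injective
  rw [map_zero]
  refine tensor_eq_zero_of_detect (fun w : J => Γ(Z w.1, w.2.1.1))
    (fun w => secHom h (hWV x) (v w.1) w.2.2.1 w.2.2.2) (fun p hp => ?_) _ fun w => ?_
  · let s := (hV x).fromSpec ⟨p, hp⟩
    have hs : s ∈ V x := (hV x).range_fromSpec.le ⟨_, rfl⟩
    letI := (S.evaluation (V x) s hs).hom.toAlgebra
    refine ⟨S.residueField s, inferInstance, inferInstance, ker_evaluation (hV x) ⟨p, hp⟩ hs, fun z hz => ?_⟩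
    apply (Algebra.TensorProduct.comm Γ(S, V x) (S.residueField s) Γ(X, W x)).injective
    rw [map_zero]
    refine detect_chart h (hV x) (hW x) (hWV x) s hs Z v (hb s) _ fun i U hU hUW hUV => ?_
    let w : J := ⟨i, ⟨⟨U, hU⟩, hUW, hUV⟩⟩
    have h2 : ∀ z', Algebra.TensorProduct.map (secHom h (hWV x) (v w.1) w.2.2.1 w.2.2.2) (AlgHom.id Γ(S, V x) (S.residueField s))
        (Algebra.TensorProduct.comm Γ(S, V x) (S.residueField s) Γ(X, W x) z') =
        Algebra.TensorProduct.comm Γ(S, V x) (S.residueField s) Γ(Z w.1, w.2.1.1)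
          (Algebra.TensorProduct.map (AlgHom.id Γ(S, V x) (S.residueField s)) (secHom h (hWV x) (v w.1) w.2.2.1 w.2.2.2) z') := by
      intro z'
      induction z' using TensorProduct.induction_on with
      | zero => simp
      | add a b ha hb => simp only [map_add, ha, hb]
      | tmul c c' => simp
    exact (h2 z).trans ((congrArg _ (hz w)).trans (map_zero _))
  · obtain ⟨l, hl⟩ := hZ w.1
    let ψ := bcChart (v w.1 ≫ h) g (hV x) w.2.1.2 w.2.2.2 (hV₁ x) (hgV x)
    let f : Γ(X, W x) ⊗[Γ(S, V x)] Γ(T, V₁ x) →ₐ[Γ(S, V x)] Γ(Z w.1, w.2.1.1) ⊗[Γ(S, V x)] Γ(T, V₁ x) :=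
      Algebra.TensorProduct.map (secHom h (hWV x) (v w.1) w.2.2.1 w.2.2.2) (AlgHom.id Γ(S, V x) Γ(T, V₁ x))
    have hw : (ψ ≫ l) ≫ y = Spec.map (CommRingCat.ofHom f.toRingHom) ≫ φ x := by
      rw [Category.assoc, hl]
      exact bcChart_comp_member h g (hV x) (hW x) (hWV x) (hV₁ x) (hgV x) (v w.1) w.2.1.2 w.2.2.1 w.2.2.2
    have hfac : (pullback.lift (ψ ≫ l) (Spec.map (CommRingCat.ofHom f.toRingHom)) hw ≫ e.hom) ≫
        Spec.map (CommRingCat.ofHom (Ideal.Quotient.mk I)) = Spec.map (CommRingCat.ofHom f.toRingHom) := by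
      rw [Category.assoc, ← he, pullback.lift_snd]
    have hk : CommRingCat.ofHom f.toRingHom = CommRingCat.ofHom (Ideal.Quotient.mk I) ≫
        Spec.preimage (pullback.lift (ψ ≫ l) (Spec.map (CommRingCat.ofHom f.toRingHom)) hw ≫ e.hom) :=
      Spec.map_injective (by rw [Spec.map_comp, Spec.map_preimage, hfac])
    have hfb : f b = 0 := by
      refine (congrArg (fun φ => φ.hom b) hk).trans ?_
      show (Spec.preimage (pullback.lift (ψ ≫ l) (Spec.map (CommRingCat.ofHom f.toRingHom)) hw ≫ e.hom)).hom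
        (Ideal.Quotient.mk I b) = 0
      rw [Ideal.Quotient.eq_zero_iff_mem.2 hbI, map_zero]
    have h3 : ∀ z, LinearMap.lTensor Γ(T, V₁ x) (secHom h (hWV x) (v w.1) w.2.2.1 w.2.2.2).toLinearMap
        (Algebra.TensorProduct.comm Γ(S, V x) Γ(X, W x) Γ(T, V₁ x) z) =
        Algebra.TensorProduct.comm Γ(S, V x) Γ(Z w.1, w.2.1.1) Γ(T, V₁ x) (f z) := by
      intro z
      induction z using TensorProduct.induction_on with
      | zero => simp
      | add a b ha hb => simp only [map_add, ha, hb]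
      | tmul c c' => simp [f]
    exact (h3 b).trans ((congrArg _ hfb).trans (map_zero _))

end GrothLib.TorsWeil14
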