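import Groth.Agent.Lib.TorsWeil14.Algebra
import Groth.Agent.Lib.SchDenseNil14.Basic
import Groth.Prelude

/-!
# Closed subschemes containing fibrewise dense flat families over a closed subscheme of the base
-/

set_option autoImplicit false
set_option backward.isDefEq.respectTransparency false
set_option linter.style.haveILetI false
universe u

open CategoryTheory CategoryTheory.Limits AlgebraicGeometry TensorProduct

noncomputable section

namespace GrothLib.TorsWeil14

variable {S : Scheme.{u}}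

theorem fromSpec_appLE' {X : Scheme.{u}} {V : X.Opens} (hV : IsAffineOpen V) {R : CommRingCat.{u}}
    (π : Γ(X, V) ⟶ R) (e) (b : Γ(X, V)) :
    (Spec.map π ≫ hV.fromSpec).appLE V ⊤ e b = (Scheme.ΓSpecIso R).inv (π b) := by
  rw [SchDenseNil14.fromSpec_appLE hV π e]
  rfl

theorem fromSpecResidueField_eq_evaluation {V : S.Opens} (hV : IsAffineOpen V) (s : S) (hs : s ∈ V) :
    Spec.map (S.evaluation V s hs) ≫ hV.fromSpec = S.fromSpecResidueField s := by
  rw [Scheme.evaluation, Spec.map_comp, Category.assoc, Scheme.fromSpecResidueField, ← hV.fromSpecStalk_eq_fromSpecStalk hs]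
  rfl

theorem ker_evaluation {V : S.Opens} (hV : IsAffineOpen V) (p : PrimeSpectrum Γ(S, V))
    (hs : hV.fromSpec p ∈ V) : RingHom.ker (S.evaluation V (hV.fromSpec p) hs).hom = p.asIdeal := by
  let s : V := ⟨hV.fromSpec p, hs⟩
  have hp : hV.primeIdealOf s = p := hV.fromSpec.isOpenEmbedding.injective (hV.fromSpec_primeIdealOf s)
  letI := TopCat.Presheaf.algebra_section_stalk S.presheaf s
  haveI := hV.isLocalization_stalk s
  ext a
  rw [RingHom.mem_ker, Scheme.evaluation, CommRingCat.comp_apply]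
  refine (IsLocalRing.residue_eq_zero_iff _).trans ?_
  refine (IsLocalization.AtPrime.to_map_mem_maximal_iff (S.presheaf.stalk (s : S)) (hV.primeIdealOf s).asIdeal a).trans ?_
  rw [hp]

variable {X : Scheme.{u}} (h : X ⟶ S)

/-- The affine chart of a fibre. -/
def chart {V : S.Opens} (hV : IsAffineOpen V) {W : X.Opens} (hW : IsAffineOpen W) (hWV : W ≤ h ⁻¹ᵁ V)
    (s : S) (hs : s ∈ V) :
    letI := (h.appLE V W hWV).hom.toAlgebra
    letI := (S.evaluation V s hs).hom.toAlgebra
    Spec (CommRingCat.of (Γ(X, W) ⊗[Γ(S, V)] S.residueField s)) ⟶ pullback h (S.fromSpecResidueField s) :=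
  letI := (h.appLE V W hWV).hom.toAlgebra
  letI := (S.evaluation V s hs).hom.toAlgebra
  (pullbackSpecIso Γ(S, V) Γ(X, W) (S.residueField s)).inv ≫
    pullback.map _ _ h (S.fromSpecResidueField s) hW.fromSpec (𝟙 _) hV.fromSpec
      (IsAffineOpen.SpecMap_appLE_fromSpec h hV hW hWV)
      ((fromSpecResidueField_eq_evaluation hV s hs).trans (Category.id_comp _).symm)

variable {V : S.Opens} (hV : IsAffineOpen V) {W : X.Opens} (hW : IsAffineOpen W) (hWV : W ≤ h ⁻¹ᵁ V)
  (s : S) (hs : s ∈ V)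

instance isOpenImmersion_chart : IsOpenImmersion (chart h hV hW hWV s hs) := by
  unfold chart
  infer_instance

theorem range_chart : Set.range (chart h hV hW hWV s hs) = (pullback.fst h (S.fromSpecResidueField s)) ⁻¹' W := by
  letI := (h.appLE V W hWV).hom.toAlgebra
  letI := (S.evaluation V s hs).hom.toAlgebra
  unfold chart
  rw [Scheme.Hom.comp_base, TopCat.coe_comp, Set.range_comp,
    Set.range_eq_univ.2 (pullbackSpecIso Γ(S, V) Γ(X, W) (S.residueField s)).inv.surjective, Set.image_univ,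
    Scheme.Pullback.range_map]
  erw [hW.range_fromSpec]
  simp
  exact fun x _ => ⟨_, rfl⟩

theorem chart_fst :
    letI := (h.appLE V W hWV).hom.toAlgebra
    letI := (S.evaluation V s hs).hom.toAlgebra
    chart h hV hW hWV s hs ≫ pullback.fst h (S.fromSpecResidueField s) =
      Spec.map (CommRingCat.ofHom (algebraMap Γ(X, W) (Γ(X, W) ⊗[Γ(S, V)] S.residueField s))) ≫ hW.fromSpec := by
  unfold chart
  rw [Category.assoc, pullback.lift_fst, ← Category.assoc, pullbackSpecIso_inv_fst']

theorem chart_snd :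
    letI := (h.appLE V W hWV).hom.toAlgebra
    letI := (S.evaluation V s hs).hom.toAlgebra
    chart h hV hW hWV s hs ≫ pullback.snd h (S.fromSpecResidueField s) =
      Spec.map (CommRingCat.ofHom (Algebra.TensorProduct.includeRight :
        S.residueField s →ₐ[Γ(S, V)] Γ(X, W) ⊗[Γ(S, V)] S.residueField s).toRingHom) := by
  unfold chart
  rw [Category.assoc, pullback.lift_snd, Category.comp_id, pullbackSpecIso_inv_snd]
  rfl

variable {Z : Scheme.{u}} (v : Z ⟶ X) {U : Z.Opens} (hU : IsAffineOpen U) (hUW : U ≤ v ⁻¹ᵁ W)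

/-- The map of sections as algebras over the base. -/
def secHom (hUV : U ≤ (v ≫ h) ⁻¹ᵁ V) :
    letI := (h.appLE V W hWV).hom.toAlgebra
    letI := ((v ≫ h).appLE V U hUV).hom.toAlgebra
    Γ(X, W) →ₐ[Γ(S, V)] Γ(Z, U) :=
  letI := (h.appLE V W hWV).hom.toAlgebra
  letI := ((v ≫ h).appLE V U hUV).hom.toAlgebra
  { (v.appLE W U hUW).hom with
    commutes' := fun a => by
      show (h.appLE V W hWV ≫ v.appLE W U hUW) a = _
      rw [Scheme.Hom.appLE_comp_appLE]
      rfl }

theorem chart_comp_fiberMap (hUV : U ≤ (v ≫ h) ⁻¹ᵁ V) :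
    letI := (h.appLE V W hWV).hom.toAlgebra
    letI := ((v ≫ h).appLE V U hUV).hom.toAlgebra
    letI := (S.evaluation V s hs).hom.toAlgebra
    chart (v ≫ h) hV hU hUV s hs ≫ MoreMor.fiberMap v h s =
      Spec.map (CommRingCat.ofHom (Algebra.TensorProduct.map (secHom h hWV v hUW hUV)
        (AlgHom.id Γ(S, V) (S.residueField s))).toRingHom) ≫ chart h hV hW hWV s hs := by
  letI := (h.appLE V W hWV).hom.toAlgebra
  letI := ((v ≫ h).appLE V U hUV).hom.toAlgebra
  letI := (S.evaluation V s hs).hom.toAlgebra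
  let fm : pullback (v ≫ h) (S.fromSpecResidueField s) ⟶ pullback h (S.fromSpecResidueField s) := MoreMor.fiberMap v h s
  have h1 : fm ≫ pullback.fst h (S.fromSpecResidueField s) = pullback.fst (v ≫ h) (S.fromSpecResidueField s) ≫ v :=
    pullback.lift_fst _ _ _
  have h2 : fm ≫ pullback.snd h (S.fromSpecResidueField s) = pullback.snd (v ≫ h) (S.fromSpecResidueField s) :=
    pullback.lift_snd _ _ _
  show chart (v ≫ h) hV hU hUV s hs ≫ fm = _
  apply pullback.hom_ext
  · rw [Category.assoc, h1, ← Category.assoc, chart_fst, Category.assoc, ← IsAffineOpen.SpecMap_appLE_fromSpec v hW hU hUW,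
      Category.assoc, chart_fst, ← Spec.map_comp_assoc, ← Spec.map_comp_assoc]
    congr 2
  · rw [Category.assoc, h2, chart_snd, Category.assoc, chart_snd, ← Spec.map_comp]
    congr 1
    ext b
    exact ((Algebra.TensorProduct.map_tmul (secHom h hWV v hUW hUV) (AlgHom.id Γ(S, V) (S.residueField s)) 1 b).trans
      (by rw [map_one]; rfl)).symm

include hV hW in
/-- Fibrewise density gives detection on the affine charts of the fibres. -/
theorem detect_chart {Idx : Type u} (Z : Idx → Scheme.{u}) (v : ∀ i, Z i ⟶ X)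
    (hb : ∀ (O : (h.fiber s).Opens) (t : Γ(h.fiber s, O)),
      (∀ i, (MoreMor.fiberMap (v i) h s).app O t = 0) → t = 0)
    (x : letI := (h.appLE V W hWV).hom.toAlgebra
      letI := (S.evaluation V s hs).hom.toAlgebra
      Γ(X, W) ⊗[Γ(S, V)] S.residueField s)
    (hx : letI := (h.appLE V W hWV).hom.toAlgebra
      letI := (S.evaluation V s hs).hom.toAlgebra
      ∀ (i : Idx) (U : (Z i).Opens) (_ : IsAffineOpen U) (hUW : U ≤ v i ⁻¹ᵁ W) (hUV : U ≤ (v i ≫ h) ⁻¹ᵁ V),
        letI := ((v i ≫ h).appLE V U hUV).hom.toAlgebra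
        Algebra.TensorProduct.map (secHom h hWV (v i) hUW hUV) (AlgHom.id Γ(S, V) (S.residueField s)) x = 0) :
    x = 0 := by
  letI := (h.appLE V W hWV).hom.toAlgebra
  letI := (S.evaluation V s hs).hom.toAlgebra
  let ω := chart h hV hW hWV s hs
  let O : (pullback h (S.fromSpecResidueField s)).Opens := ω ''ᵁ ⊤
  let t : Γ(pullback h (S.fromSpecResidueField s), O) := (ω.appIso ⊤).inv ((Scheme.ΓSpecIso _).inv x)
  have hωt : ∀ e, ω.appLE O ⊤ e t = (Scheme.ΓSpecIso _).inv x := fun e => by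
    show ((ω.appIso ⊤).inv ≫ ω.appLE (ω ''ᵁ ⊤) ⊤ e) _ = _
    rw [Scheme.Hom.appIso_inv_appLE]
    simp
  have ht : t = 0 := by
    refine hb O t fun i => ?_
    let fm : pullback (v i ≫ h) (S.fromSpecResidueField s) ⟶ pullback h (S.fromSpecResidueField s) :=
      MoreMor.fiberMap (v i) h s
    show fm.app O t = 0
    refine TopCat.Presheaf.section_ext (pullback (v i ≫ h) (S.fromSpecResidueField s)).sheaf _ _ _ fun y hy => ?_
    have hyW : v i (pullback.fst (v i ≫ h) (S.fromSpecResidueField s) y) ∈ W := by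
      have h1 : fm y ∈ Set.range ω := by
        obtain ⟨z, -, hz⟩ := hy
        exact ⟨z, hz⟩
      rw [range_chart] at h1
      rw [← Scheme.Hom.comp_apply]
      have hfm : fm ≫ pullback.fst h (S.fromSpecResidueField s) = pullback.fst (v i ≫ h) (S.fromSpecResidueField s) ≫ v i :=
        pullback.lift_fst _ _ _
      rw [← hfm, Scheme.Hom.comp_apply]
      exact h1
    obtain ⟨U, hU, hyU, hUW'⟩ := exists_isAffineOpen_mem_and_subset
      (show pullback.fst (v i ≫ h) (S.fromSpecResidueField s) y ∈ v i ⁻¹ᵁ W from hyW)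
    have hUW : U ≤ v i ⁻¹ᵁ W := hUW'
    have hUV : U ≤ (v i ≫ h) ⁻¹ᵁ V := fun z hz => hWV (hUW hz)
    letI := ((v i ≫ h).appLE V U hUV).hom.toAlgebra
    let ω' := chart (v i ≫ h) hV hU hUV s hs
    have hyr : y ∈ Set.range ω' := by
      rw [range_chart]
      exact hyU
    have hc : ω' ≫ fm = _ := chart_comp_fiberMap h hV hW hWV s hs (v i) hU hUW hUV
    have hle : ω' ''ᵁ ⊤ ≤ fm ⁻¹ᵁ O := by
      rintro _ ⟨z, -, rfl⟩
      exact ⟨_, trivial, ((congr($(hc) z)).trans (Scheme.Hom.comp_apply _ _ _)).symm⟩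
    have hzero : fm.appLE O (ω' ''ᵁ ⊤) hle t = 0 := by
      apply (ω'.appIso ⊤).commRingCatIsoToRingEquiv.injective
      rw [map_zero]
      change ((fm.appLE O (ω' ''ᵁ ⊤) hle) ≫ (ω'.appIso ⊤).hom) t = 0
      rw [Scheme.Hom.appIso_hom', Scheme.Hom.appLE_comp_appLE]
      have e2 : ∀ (f : Spec _ ⟶ h.fiber s) (_ : f = ω' ≫ fm) (e), (ω' ≫ fm).appLE O ⊤ e t = f.appLE O ⊤
          (by subst f; exact e) t := by
        rintro f rfl e; rfl
      rw [e2 _ hc.symm, ← Scheme.Hom.appLE_comp_appLE _ ω O ⊤ ⊤ (by rw [Scheme.Hom.preimage_image_eq]) le_top,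
        CommRingCat.comp_apply]
      erw [hωt]
      rw [← CommRingCat.comp_apply]
      have happ : ∀ {R R' : CommRingCat.{u}} (φ : R ⟶ R') (e), (Spec.map φ).appLE ⊤ ⊤ e = (Spec.map φ).appTop :=
        fun φ e => by simp [Scheme.Hom.appLE]
      rw [happ,
        ← Scheme.ΓSpecIso_inv_naturality, CommRingCat.comp_apply]
      exact (congrArg _ (hx i U hU hUW hUV)).trans (map_zero _)
    have hyO : y ∈ ω' ''ᵁ ⊤ := by
      obtain ⟨z, hz⟩ := hyr
      exact ⟨z, trivial, hz⟩
    have := congrArg ((pullback (v i ≫ h) (S.fromSpecResidueField s)).presheaf.germ (ω' ''ᵁ ⊤) y hyO) hzero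
    simp only [Scheme.Hom.appLE, CommRingCat.comp_apply, TopCat.Presheaf.germ_res_apply] at this
    exact this.trans ((map_zero _).trans (map_zero _).symm)
  have h2 := hωt (by rw [Scheme.Hom.preimage_image_eq])
  rw [ht, map_zero] at h2
  apply (Scheme.ΓSpecIso (CommRingCat.of (Γ(X, W) ⊗[Γ(S, V)] S.residueField s))).commRingCatIsoToRingEquiv.symm.injective
  rw [map_zero]
  exact h2.symm

end GrothLib.TorsWeil14
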