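import Groth.Agent.Lib.TorsWeil14.Fiber
import Groth.Agent.Lib.EssFree.Transporter
import Groth.Agent.Lib.EssFree.Descent

/-!
# Weil restriction of closed subschemes along fibrewise dense finite flat families
-/

set_option autoImplicit false
set_option backward.isDefEq.respectTransparency false
set_option linter.style.haveILetI false
universe u

open CategoryTheory CategoryTheory.Limits AlgebraicGeometry TensorProduct

noncomputable section

namespace GrothLib.TorsWeil14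

variable {S : Scheme.{u}}

/-- Sections of the ideal of `y` vanish on a member over the closed subscheme of the base. -/
theorem appLE_mem_map {X Y T Z : Scheme.{u}} (h : X ⟶ S) (y : Y ⟶ X) (t : T ⟶ S) [IsClosedImmersion t]
    {V : S.Opens} (hV : IsAffineOpen V) {W : X.Opens} (v : Z ⟶ X) {U : Z.Opens} (hU : IsAffineOpen U)
    (hUW : U ≤ v ⁻¹ᵁ W) (hUV : U ≤ (v ≫ h) ⁻¹ᵁ V)
    (hl : ∃ l : pullback (v ≫ h) t ⟶ Y, l ≫ y = pullback.fst (v ≫ h) t ≫ v)
    {b : Γ(X, W)} (hb : y.app W b = 0) :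
    v.appLE W U hUW b ∈ (RingHom.ker (t.app V).hom).map ((v ≫ h).appLE V U hUV).hom := by
  let f := ((v ≫ h).appLE V U hUV).hom
  let a : Ideal Γ(S, V) := RingHom.ker (t.app V).hom
  let e : (Γ(S, V) ⧸ a) ≃+* Γ(T, t ⁻¹ᵁ V) := RingHom.quotientKerEquivOfSurjective (t.app_surjective V hV)
  let π : Γ(Z, U) ⟶ CommRingCat.of (Γ(Z, U) ⧸ a.map f) := CommRingCat.ofHom (Ideal.Quotient.mk _)
  let φ : Γ(T, t ⁻¹ᵁ V) ⟶ CommRingCat.of (Γ(Z, U) ⧸ a.map f) := CommRingCat.ofHom
    ((Ideal.quotientMap (a.map f) f Ideal.le_comap_map).comp e.symm.toRingHom)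
  have hφ : t.app V ≫ φ = (v ≫ h).appLE V U hUV ≫ π := by
    ext r
    show Ideal.quotientMap (I := a) (a.map f) f Ideal.le_comap_map (e.symm (t.app V r)) = Ideal.Quotient.mk (a.map f) (f r)
    rw [show e.symm (t.app V r) = Ideal.Quotient.mk a r from e.symm_apply_eq.2 rfl, Ideal.quotientMap_mk]
  have hcomm : (Spec.map π ≫ hU.fromSpec) ≫ v ≫ h = (Spec.map φ ≫ (hV.preimage t).fromSpec) ≫ t := by
    have h1 : Spec.map (t.app V) ≫ hV.fromSpec = (hV.preimage t).fromSpec ≫ t := by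
      rw [Scheme.Hom.app_eq_appLE, IsAffineOpen.SpecMap_appLE_fromSpec]
    rw [Category.assoc, Category.assoc, ← h1, ← IsAffineOpen.SpecMap_appLE_fromSpec (v ≫ h) hV hU hUV,
      ← Spec.map_comp_assoc, ← Spec.map_comp_assoc, hφ]
  obtain ⟨l, hl⟩ := hl
  let g : Spec (CommRingCat.of (Γ(Z, U) ⧸ a.map f)) ⟶ X := (Spec.map π ≫ hU.fromSpec) ≫ v
  have hm : (pullback.lift (Spec.map π ≫ hU.fromSpec) (Spec.map φ ≫ (hV.preimage t).fromSpec) hcomm ≫ l) ≫ y = g := by
    rw [Category.assoc, hl, pullback.lift_fst_assoc]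
  have hle : (⊤ : (Spec (CommRingCat.of (Γ(Z, U) ⧸ a.map f))).Opens) ≤ g ⁻¹ᵁ W := fun z _ =>
    hUW (hU.range_fromSpec.le ⟨_, rfl⟩)
  have key : ∀ (k : Spec (CommRingCat.of (Γ(Z, U) ⧸ a.map f)) ⟶ X) (_ : k = g) (e), k.appLE W ⊤ e b = g.appLE W ⊤ hle b := by
    rintro k rfl e; rfl
  have h0 : g.appLE W ⊤ hle b = 0 := by
    rw [← key _ hm (by rw [hm]; exact hle), Scheme.Hom.appLE, Scheme.Hom.comp_app, Category.assoc, CommRingCat.comp_apply,
      hb, map_zero]
  have h2 : g.appLE W ⊤ hle = v.appLE W U hUW ≫ π ≫ (Scheme.ΓSpecIso _).inv := by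
    rw [← SchDenseNil14.fromSpec_appLE hU π (by rintro z -; exact hU.range_fromSpec.le ⟨_, rfl⟩),
      Scheme.Hom.appLE_comp_appLE]
  rw [h2] at h0
  exact Ideal.Quotient.eq_zero_iff_mem.1 ((Scheme.ΓSpecIso (CommRingCat.of (Γ(Z, U) ⧸ a.map f))).commRingCatIsoToRingEquiv.symm.injective
    (h0.trans (map_zero _).symm))

/-- A closed subscheme containing a fibrewise dense flat family over a closed subscheme of the base contains
everything over it. -/
theorem exists_factor_of_dense [IsLocallyNoetherian S] {X : Scheme.{u}} (h : X ⟶ S) [LocallyOfFiniteType h]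
    {Idx : Type u} (Z : Idx → Scheme.{u}) (v : ∀ i, Z i ⟶ X) [∀ i, Flat (v i ≫ h)]
    (hb : ∀ (s : S) (O : (h.fiber s).Opens) (t : Γ(h.fiber s, O)),
      (∀ i, (MoreMor.fiberMap (v i) h s).app O t = 0) → t = 0)
    {Y : Scheme.{u}} (y : Y ⟶ X) [IsClosedImmersion y] {T : Scheme.{u}} (t : T ⟶ S) [IsClosedImmersion t]
    (hZ : ∀ i, ∃ l : pullback (v i ≫ h) t ⟶ Y, l ≫ y = pullback.fst (v i ≫ h) t ≫ v i) :
    ∃ l : pullback h t ⟶ Y, l ≫ y = pullback.fst h t := by
  haveI : IsLocallyNoetherian X := LocallyOfFiniteType.isLocallyNoetherian h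
  suffices hk : y.ker ≤ (pullback.fst h t).ker from ⟨IsClosedImmersion.lift y _ hk, IsClosedImmersion.lift_fac _ _ hk⟩
  have hbasis : ∀ x : X, ∃ (W : X.affineOpens) (V : S.Opens), IsAffineOpen V ∧ x ∈ W.1 ∧ W.1 ≤ h ⁻¹ᵁ V := fun x => by
    obtain ⟨_, ⟨V, hV, rfl⟩, hxV, -⟩ := S.isBasis_affineOpens.exists_subset_of_mem_open (Set.mem_univ (h x)) isOpen_univ
    obtain ⟨W, hW, hxW, hWV⟩ := exists_isAffineOpen_mem_and_subset (show x ∈ h ⁻¹ᵁ V from hxV)
    exact ⟨⟨W, hW⟩, V, hV, hxW, hWV⟩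
  choose W V hV hxW hWV using hbasis
  refine Scheme.IdealSheafData.le_of_iSup_eq_top W
    (eq_top_iff.2 fun x _ => TopologicalSpace.Opens.mem_iSup.2 ⟨x, hxW x⟩) fun x b hby => ?_
  rw [Scheme.Hom.ker_apply] at hby ⊢
  let W' := (W x).1
  have hW : IsAffineOpen W' := (W x).2
  letI := (h.appLE (V x) W' (hWV x)).hom.toAlgebra
  haveI : IsNoetherianRing Γ(S, V x) := IsLocallyNoetherian.component_noetherian ⟨V x, hV x⟩
  haveI : IsNoetherianRing Γ(X, W') := IsLocallyNoetherian.component_noetherian (W x)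
  let a : Ideal Γ(S, V x) := RingHom.ker (t.app (V x)).hom
  -- the family of affine charts
  let J := Σ i, {U : (Z i).affineOpens // U.1 ≤ v i ⁻¹ᵁ W' ∧ U.1 ≤ (v i ≫ h) ⁻¹ᵁ V x}
  letI : ∀ w : J, Algebra Γ(S, V x) Γ(Z w.1, w.2.1.1) := fun w => ((v w.1 ≫ h).appLE (V x) w.2.1.1 w.2.2.2).hom.toAlgebra
  haveI : ∀ w : J, Module.Flat Γ(S, V x) Γ(Z w.1, w.2.1.1) := fun w =>
    Scheme.Hom.flat_appLE (v w.1 ≫ h) (hV x) w.2.1.2 w.2.2.2
  have hmem : b ∈ a.map (algebraMap Γ(S, V x) Γ(X, W')) := by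
    refine mem_map_of_detect (fun w : J => Γ(Z w.1, w.2.1.1))
      (fun w => secHom h (hWV x) (v w.1) w.2.2.1 w.2.2.2) a b (fun w => ?_) (fun p hp => ?_)
    · -- vanishing on the members
      exact appLE_mem_map h y t (hV x) (v w.1) w.2.1.2 w.2.2.1 w.2.2.2 (hZ w.1) hby
    · -- fibrewise detection
      let s := (hV x).fromSpec ⟨p, hp⟩
      have hs : s ∈ V x := (hV x).range_fromSpec.le ⟨_, rfl⟩
      letI := (S.evaluation (V x) s hs).hom.toAlgebra
      refine ⟨S.residueField s, inferInstance, inferInstance, ker_evaluation (hV x) ⟨p, hp⟩ hs, fun z hz => ?_⟩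
      apply (Algebra.TensorProduct.comm Γ(S, V x) (S.residueField s) Γ(X, W')).injective
      rw [map_zero]
      refine detect_chart h (hV x) hW (hWV x) s hs Z v (hb s) _ fun i U hU hUW hUV => ?_
      let w : J := ⟨i, ⟨⟨U, hU⟩, hUW, hUV⟩⟩
      have h2 : ∀ z', Algebra.TensorProduct.map (secHom h (hWV x) (v w.1) w.2.2.1 w.2.2.2) (AlgHom.id Γ(S, V x) (S.residueField s))
          (Algebra.TensorProduct.comm Γ(S, V x) (S.residueField s) Γ(X, W') z') =
          Algebra.TensorProduct.comm Γ(S, V x) (S.residueField s) Γ(Z w.1, w.2.1.1)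
            (Algebra.TensorProduct.map (AlgHom.id Γ(S, V x) (S.residueField s)) (secHom h (hWV x) (v w.1) w.2.2.1 w.2.2.2) z') := by
        intro z'
        induction z' using TensorProduct.induction_on with
        | zero => simp
        | add a b ha hb => simp only [map_add, ha, hb]
        | tmul c c' => simp
      exact (h2 z).trans ((congrArg _ (hz w)).trans (map_zero _))
  refine (Ideal.map_le_iff_le_comap (K := RingHom.ker ((pullback.fst h t).app W').hom)).2 (fun r hr => ?_) hmem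
  show (pullback.fst h t).app W' (h.appLE (V x) W' (hWV x) r) = 0
  have e : ∀ (f f' : pullback h t ⟶ S) (_ : f = f') (O : (pullback h t).Opens) (e e'), f.appLE (V x) O e r = f'.appLE (V x) O e' r := by
    rintro f f' rfl O e e'; rfl
  rw [Scheme.Hom.app_eq_appLE, ← CommRingCat.comp_apply, Scheme.Hom.appLE_comp_appLE,
    e _ (pullback.snd h t ≫ t) pullback.condition _ _ (by rw [← pullback.condition]; exact fun z hz => hWV x hz),
    Scheme.Hom.appLE, Scheme.Hom.comp_app, Category.assoc, CommRingCat.comp_apply, show t.app (V x) r = 0 from hr, map_zero]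

end GrothLib.TorsWeil14
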